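import Mathlib
import Cfsg.Agent.Symp.Defs
import Cfsg.Prelude.Def_ClassificationK
import Cfsg.Prelude.Def_CaseTheorems
import Cfsg.Agent.Spor.ESSympl
import Cfsg.Agent.GT.PGroupSymplectic
import Cfsg.Agent.GT.PGroupRank
import Cfsg.Agent.GT.NilpotentMaximal
import Cfsg.Agent.Inv.TwoAut

/-! P. Hall's structure of 2-groups of symplectic type gives the setup `St`. -/

set_option autoImplicit false

namespace Cfsg.Agent.Symp

open Cfsg Cfsg.Agent.Spor Subgroup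
open scoped commutatorElement

/-- `Q = E R` with `R` centralising `E`, and `R = ⟨a⟩` or `R` of maximal class with cyclic subgroup `⟨a⟩`. -/
structure HD {G : Type*} [Group G] (Q E : Subgroup G) (z a : G) (k : ℕ) : Prop where
  esz : GT.PG.ESZ 2 E z
  le : E ≤ Q
  a_mem : a ∈ Q
  ord : orderOf a = 2 ^ (k + 1)
  za : a ^ 2 ^ k = z
  ac : ∀ e ∈ E, Commute a e
  dec : ∀ q ∈ Q, ∃ e ∈ E, ∃ r, q = e * r ∧ (∀ e' ∈ E, Commute r e') ∧
    (r ∈ zpowers a ∨ (2 ≤ k ∧ r * r ∈ zpowers z ∧ r * (a * a) * r⁻¹ = (a * a)⁻¹))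

theorem exists_hd {T : Type*} [Group T] [Finite T] (h : IsOfSymplecticType T) {z : T} (hz1 : z ≠ 1)
    (hzz : z * z = 1) (hzc : z ∈ center T) : ∃ E a k, HD ⊤ E z a k := by
  have : Nontrivial T := ⟨⟨z, 1, hz1⟩⟩
  have : Fact (Nat.Prime 2) := ⟨Nat.prime_two⟩
  obtain ⟨z', E, R, hE, hc, hR, -, -, hRE, hER, hcase⟩ := GT.PG.exists_symplectic_decomposition h.1 h.2
  have e : z' = z := (sympl_invol h hz1 hzz hzc (A := center T) inferInstance hc
    (by rw [← pow_two]; exact hE.z_pow)).resolve_left hE.z_ne_one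
  subst e
  have hd : ∀ q : T, ∃ e ∈ E, ∃ r ∈ R, e * r = q := fun q =>
    (GT.PG.mem_sup_of_le_normalizer (hRE.trans (GT.PG.centralizer_le_normalizer' E))).1 (hER ▸ mem_top q)
  have hcm : ∀ r ∈ R, ∀ e ∈ E, Commute r e := fun r hr e he => (mem_centralizer_iff.1 (hRE hr) e he).symm
  rcases hcase with hcy | ⟨-, m, a, b, hm, hM⟩
  · obtain ⟨a, ha, -⟩ := GT.PG.exists_orderOf_eq_of_isCyclic hcy
    obtain ⟨n, hn⟩ := (IsPGroup.iff_orderOf.1 h.1) a
    have haR : a ∈ R := ha ▸ mem_zpowers a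
    rcases n with _ | k
    · rw [pow_zero, orderOf_eq_one_iff] at hn
      rw [← ha, hn, zpowers_one_eq_bot, mem_bot] at hR
      exact absurd hR hz1
    have h1 : a ^ 2 ^ k ≠ 1 := pow_ne_one_of_lt_orderOf (by positivity) (by
      rw [hn]; exact Nat.pow_lt_pow_right one_lt_two (by omega))
    have h2 : a ^ 2 ^ k * a ^ 2 ^ k = 1 := by
      rw [← pow_add, ← two_mul, ← pow_succ', ← hn, pow_orderOf_eq_one]
    have h3 := eq_of_sq_of_isCyclic (H := R) (a := ⟨a ^ 2 ^ k, pow_mem haR _⟩) (b := ⟨z', hR⟩)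
      (Subtype.ext h2) (Subtype.ext hzz) (fun e => hz1 (congrArg Subtype.val e))
    refine ⟨E, a, k, hE, le_top, mem_top _, hn, ?_, hcm a haR, fun q _ => ?_⟩
    · rcases h3 with e | e
      · exact absurd (congrArg Subtype.val e) h1
      · exact congrArg Subtype.val e
    · obtain ⟨e, he, r, hr, rfl⟩ := hd q
      exact ⟨e, he, r, rfl, hcm r hr, Or.inl (ha ▸ hr)⟩
  · have h1 : (⟨z', hR⟩ : R) = a ^ 2 ^ m := (hM.mem_center_iff.1 (mem_center_iff.2 fun g =>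
      Subtype.ext (mem_center_iff.1 hc g))).resolve_left fun e => hz1 (congrArg Subtype.val e)
    have h2 : (a : T) ^ 2 ^ m = z' := (congrArg Subtype.val h1).symm
    refine ⟨E, a, m, hE, le_top, mem_top _, by rw [orderOf_coe, hM.orderOf_eq], h2, hcm a a.2, fun q _ => ?_⟩
    obtain ⟨e, he, r, hr, rfl⟩ := hd q
    refine ⟨e, he, r, rfl, hcm r hr, ?_⟩
    by_cases hra : (⟨r, hr⟩ : R) ∈ zpowers a
    · obtain ⟨i, hi⟩ := mem_zpowers_iff.1 hra
      exact Or.inl (mem_zpowers_iff.2 ⟨i, congrArg Subtype.val hi⟩)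
    refine Or.inr ⟨hm, ?_, ?_⟩
    · rcases hM.mem_center_iff.1 (hM.sq_mem_center hra) with e | e
      · rw [← pow_two, show r ^ 2 = 1 from congrArg Subtype.val e]; exact one_mem _
      · rw [← pow_two, show r ^ 2 = z' from (congrArg Subtype.val e).trans h2]; exact mem_zpowers _
    · have := congrArg Subtype.val (hM.conj_sq_zpow hra 1)
      simpa [zpow_two, pow_two] using this

namespace HD

variable {G : Type*} [Group G] {Q E : Subgroup G} {z a : G} {k : ℕ}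

theorem map {G' : Type*} [Group G'] (h : HD Q E z a k) {f : G →* G'} (hf : Function.Injective f) :
    HD (Q.map f) (E.map f) (f z) (f a) k where
  esz := h.esz.map hf
  le := map_mono h.le
  a_mem := mem_map_of_mem f h.a_mem
  ord := by rw [orderOf_injective f hf, h.ord]
  za := by rw [← map_pow, h.za]
  ac := by rintro _ ⟨e, he, rfl⟩; exact (h.ac e he).map f
  dec := by
    rintro _ ⟨q, hq, rfl⟩
    obtain ⟨e, he, r, rfl, h1, h2⟩ := h.dec q hq
    refine ⟨f e, mem_map_of_mem f he, f r, map_mul f e r, ?_, ?_⟩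
    · rintro _ ⟨e', he', rfl⟩; exact (h1 e' he').map f
    rcases h2 with h2 | ⟨h2, h3, h4⟩
    · exact Or.inl (MonoidHom.map_zpowers f a ▸ mem_map_of_mem f h2)
    · refine Or.inr ⟨h2, ?_, ?_⟩
      · rw [← map_mul]; exact MonoidHom.map_zpowers f z ▸ mem_map_of_mem f h3
      · simpa using congrArg f h4

variable (h : HD Q E z a k)
include h

theorem z_ne : z ≠ 1 := haveI : Fact (Nat.Prime 2) := ⟨Nat.prime_two⟩; h.esz.z_ne_one

theorem z_sq : z * z = 1 := by rw [← pow_two]; exact h.esz.z_pow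

theorem z_mem : z ∈ zpowers a := h.za ▸ npow_mem_zpowers a _

theorem zp_le : zpowers z ≤ zpowers a := zpowers_le.2 h.z_mem

theorem ac' {x : G} (hx : x ∈ zpowers a) {e : G} (he : e ∈ E) : Commute x e := by
  obtain ⟨i, rfl⟩ := mem_zpowers_iff.1 hx
  exact (h.ac e he).zpow_left i

theorem mem_sup {x : G} (hx : x ∈ zpowers a) {q : G} :
    q ∈ E ⊔ zpowers x ↔ ∃ e ∈ E, ∃ y ∈ zpowers x, e * y = q :=
  GT.PG.mem_sup_of_le_normalizer ((zpowers_le.2 (mem_centralizer_iff.2 fun _ he => (h.ac' hx he).symm)).trans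
    (GT.PG.centralizer_le_normalizer' E))

theorem sup_le' : E ⊔ zpowers a ≤ Q := sup_le h.le (zpowers_le.2 h.a_mem)

theorem comm_of_mem {x q : G} (hx : x ∈ zpowers a) (hq : q ∈ E ⊔ zpowers a) : Commute x q := by
  obtain ⟨e, he, y, hy, rfl⟩ := (h.mem_sup (mem_zpowers a)).1 hq
  obtain ⟨i, rfl⟩ := mem_zpowers_iff.1 hx
  obtain ⟨j, rfl⟩ := mem_zpowers_iff.1 hy
  exact ((h.ac e he).zpow_left i).mul_right (Commute.zpow_zpow_self a i j)

theorem out {q : G} (hq : q ∈ Q) (hC : q ∉ E ⊔ zpowers a) : 2 ≤ k ∧ q * (a * a) * q⁻¹ = (a * a)⁻¹ := by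
  obtain ⟨e, he, r, rfl, -, h2 | ⟨h2, -, h3⟩⟩ := h.dec q hq
  · exact absurd (mul_mem_sup he h2) hC
  refine ⟨h2, ?_⟩
  have h4 : Commute e (a * a)⁻¹ := ((h.ac e he).mul_left (h.ac e he)).symm.inv_right
  calc _ = e * (r * (a * a) * r⁻¹) * e⁻¹ := by group
    _ = _ := by rw [h3, h4.eq, mul_inv_cancel_right]

theorem pow_dvd {i : ℤ} (hi : a ^ i = 1) : (2 : ℤ) ^ (k + 1) ∣ i := by
  have := orderOf_dvd_iff_zpow_eq_one.2 hi
  rw [h.ord] at this
  exact_mod_cast this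

theorem mem_of_comm {q : G} (hq : q ∈ Q) (hc : Commute q (a * a)) : q ∈ E ⊔ zpowers a := by
  by_contra hC
  obtain ⟨h1, h2⟩ := h.out hq hC
  rw [hc.eq, mul_inv_cancel_right, eq_inv_iff_mul_eq_one] at h2
  have h3 := h.pow_dvd (i := 4) (by rw [← h2, ← zpow_two a, ← zpow_add]; rfl)
  have h4 : (2 : ℤ) ^ 3 ∣ 4 := (pow_dvd_pow 2 (by omega)).trans h3
  omega

theorem mul_inv_mem {q q' : G} (hq : q ∈ Q) (hq' : q' ∈ Q) (hC : q ∉ E ⊔ zpowers a) (hC' : q' ∉ E ⊔ zpowers a) :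
    q⁻¹ * q' ∈ E ⊔ zpowers a := by
  refine h.mem_of_comm (mul_mem (inv_mem hq) hq') ?_
  have h1 := (h.out hq hC).2
  have h2 := (h.out hq' hC').2
  show q⁻¹ * q' * (a * a) = a * a * (q⁻¹ * q')
  calc _ = q⁻¹ * (q' * (a * a) * q'⁻¹) * q' := by group
    _ = q⁻¹ * (q * (a * a) * q⁻¹) * q' := by rw [h1, h2]
    _ = _ := by group

theorem mem_zp {x : G} (hx : x ∈ E ⊔ zpowers a) (hc : ∀ e ∈ E, Commute x e) : x ∈ zpowers a := by
  obtain ⟨e, he, y, hy, rfl⟩ := (h.mem_sup (mem_zpowers a)).1 hx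
  refine mul_mem (h.zp_le (h.esz.mem_zpowers_of_forall_commute he fun e' he' => ?_)) hy
  simpa using ((hc e' he').mul_left (h.ac' hy he').inv_left).symm

theorem invol {x : G} (hx : x ∈ zpowers a) (hxx : x * x = 1) : x = 1 ∨ x = z := by
  obtain ⟨i, rfl⟩ := mem_zpowers_iff.1 hx
  obtain ⟨j, hj⟩ := h.pow_dvd (i := i + i) (by rw [zpow_add, hxx])
  have h1 : i = 2 ^ k * j := by rw [pow_succ] at hj; linarith
  rw [← mem_zpowers_iff_of_sq h.z_sq, h1, zpow_mul, ← h.za]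
  exact zpow_mem (by exact_mod_cast mem_zpowers _) j

theorem sq_mem (hk : 1 ≤ k) {q : G} (hq : q ∈ Q) : q * q ∈ zpowers (a * a) := by
  have hz : zpowers z ≤ zpowers (a * a) := zpowers_le.2 (by
    obtain ⟨j, rfl⟩ := Nat.exists_eq_add_of_le' hk
    rw [← h.za, pow_succ', pow_mul, pow_two]
    exact npow_mem_zpowers _ _)
  obtain ⟨e, he, r, rfl, h1, h2⟩ := h.dec q hq
  have h3 : e * r * (e * r) = e ^ 2 * (r * r) := by
    rw [pow_two, mul_assoc, ← mul_assoc r, (h1 e he).eq]; group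
  rw [h3]
  refine mul_mem (hz (h.esz.pow_mem e he)) ?_
  rcases h2 with h2 | ⟨-, h2, -⟩
  · obtain ⟨i, rfl⟩ := mem_zpowers_iff.1 h2
    rw [← (Commute.refl a).mul_zpow]
    exact zpow_mem_zpowers _ _
  · exact hz h2

theorem invC {N : Subgroup G} (hN : ∀ c ∈ N, ∀ q ∈ Q, c * q * c⁻¹ ∈ Q) {c q : G} (hc : c ∈ N)
    (hq : q ∈ E ⊔ zpowers a) : c * q * c⁻¹ ∈ E ⊔ zpowers a := by
  have h1 := hN c hc q (h.sup_le' hq)
  by_contra hC
  have h2 := h.sq_mem (by have := (h.out h1 hC).1; omega) (hN c⁻¹ (inv_mem hc) a h.a_mem)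
  have h3 := h.comm_of_mem (zpowers_le.2 (mul_mem (mem_zpowers a) (mem_zpowers a)) h2) hq
  refine hC (h.mem_of_comm h1 ?_)
  show c * q * c⁻¹ * (a * a) = a * a * (c * q * c⁻¹)
  calc _ = c * (q * (c⁻¹ * a * c⁻¹⁻¹ * (c⁻¹ * a * c⁻¹⁻¹))) * c⁻¹ := by group
    _ = _ := by rw [← h3.eq]; group

theorem invB {N : Subgroup G} (hN : ∀ c ∈ N, ∀ q ∈ Q, c * q * c⁻¹ ∈ Q) {c : G} (hc : c ∈ N) :
    c * a * c⁻¹ ∈ zpowers a := by
  refine h.mem_zp (h.invC hN hc (mem_sup_right (mem_zpowers a))) fun e he => ?_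
  have h1 := h.comm_of_mem (mem_zpowers a) (h.invC hN (inv_mem hc) (mem_sup_left he))
  show c * a * c⁻¹ * e = e * (c * a * c⁻¹)
  calc _ = c * (a * (c⁻¹ * e * c⁻¹⁻¹)) * c⁻¹ := by group
    _ = _ := by rw [h1.eq]; group

theorem inv_pow {N : Subgroup G} (hN : ∀ c ∈ N, ∀ q ∈ Q, c * q * c⁻¹ ∈ Q) {c : G} (hc : c ∈ N) (n : ℕ) :
    c * a ^ n * c⁻¹ ∈ zpowers (a ^ n) := by
  obtain ⟨i, hi⟩ := mem_zpowers_iff.1 (h.invB hN hc)
  rw [← conj_pow, ← hi, ← zpow_natCast (a ^ i), ← zpow_mul, mul_comm, zpow_mul, zpow_natCast]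
  exact zpow_mem_zpowers _ _

theorem odd_a {N : Subgroup G} (hN : ∀ c ∈ N, ∀ q ∈ Q, c * q * c⁻¹ ∈ Q) {c : G} (hc : c ∈ N)
    (ho : Odd (orderOf c)) {x : G} (hx : x ∈ zpowers a) : MulAut.conj c x = x := by
  obtain ⟨i, rfl⟩ := mem_zpowers_iff.1 hx
  rw [map_zpow, Inv.Fz.fix_of_mem_zpowers (Inv.Fz.odd_orderOf_conj ho) (k := k + 1)
    (by rw [← h.ord, pow_orderOf_eq_one]) (h.invB hN hc)]

theorem odd_cent {N : Subgroup G} (hN : ∀ c ∈ N, ∀ q ∈ Q, c * q * c⁻¹ ∈ Q) (hQ : IsPGroup 2 Q) {c : G} (hc : c ∈ N)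
    (ho : Odd (orderOf c)) (hE : ∀ e ∈ E, MulAut.conj c e = e) : c ∈ centralizer (Q : Set G) := by
  have h1 : ∀ q ∈ E ⊔ zpowers a, MulAut.conj c q = q := fun q hq => by
    obtain ⟨e, he, y, hy, rfl⟩ := (h.mem_sup (mem_zpowers a)).1 hq
    rw [map_mul, hE e he, h.odd_a hN hc ho hy]
  have h2 : ∀ q ∈ Q, MulAut.conj c q = q := fun q hq => by
    by_cases hC : q ∈ E ⊔ zpowers a
    · exact h1 q hC
    have h3 : c * q * c⁻¹ ∉ E ⊔ zpowers a := fun e => hC (by simpa [mul_assoc] using h.invC hN (inv_mem hc) e)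
    have h4 := h.mul_inv_mem hq (hN c hc q hq) hC h3
    obtain ⟨n, hn⟩ := hQ ⟨_, h.sup_le' h4⟩
    exact Inv.Fz.fix_of_eq_mul_fixed (Inv.Fz.odd_orderOf_conj ho) (by simp) (h1 _ h4) (congrArg Subtype.val hn)
  exact mem_centralizer_iff.2 fun q hq => (mul_inv_eq_iff_eq_mul.1 (h2 q hq)).symm

omit h in
theorem two_of_odd [Finite G] {K : Subgroup G} (hQ : IsPGroup 2 Q) (hK : ∀ c ∈ K, Odd (orderOf c) → c ∈ Q) :
    IsPGroup 2 K := fun c => by
  obtain ⟨n, hn⟩ := Inv.Fz.exists_pow_odd (c : G)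
  obtain ⟨m, hm⟩ := hQ ⟨_, hK _ (pow_mem c.2 _) hn⟩
  exact ⟨n + m, Subtype.ext (by rw [pow_add, pow_mul]; simpa using congrArg Subtype.val hm)⟩

theorem card_le (hE : E = zpowers z) {A : Subgroup G} (hA : A ≤ Q) (hA2 : ∀ x ∈ A, x * x = 1) :
    Nat.card A ≤ 4 := by
  classical
  have h1 : ∀ x ∈ A, x ∈ E ⊔ zpowers a → x = 1 ∨ x = z := fun x hx hC =>
    h.invol (by rwa [hE, sup_eq_right.2 h.zp_le] at hC) (hA2 x hx)
  obtain ⟨y, hy⟩ : ∃ y, (A : Set G) ⊆ ({1, z, y, y * z} : Finset G) := by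
    by_cases hC : ∀ x ∈ A, x ∈ E ⊔ zpowers a
    · exact ⟨1, fun x hx => by rcases h1 x hx (hC x hx) with rfl | rfl <;> simp⟩
    push Not at hC
    obtain ⟨y, hy, hC⟩ := hC
    refine ⟨y, fun x hx => ?_⟩
    by_cases hx' : x ∈ E ⊔ zpowers a
    · rcases h1 x hx hx' with rfl | rfl <;> simp
    rcases h1 _ (mul_mem (inv_mem hy) hx) (h.mul_inv_mem (hA hy) (hA hx) hC hx') with e | e
    · simp [← inv_mul_eq_one.1 e]
    · simp [inv_mul_eq_iff_eq_mul.1 e]
  calc Nat.card A = (A : Set G).ncard := rfl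
    _ ≤ (({1, z, y, y * z} : Finset G) : Set G).ncard := Set.ncard_le_ncard hy (Finset.finite_toSet _)
    _ ≤ 4 := by rw [Set.ncard_coe_finset]; exact Finset.card_le_four

theorem rank [Finite G] (hE : E = zpowers z) (hCQ : centralizer (Q : Set G) ≤ Q)
    (hcore : Q = pCoreOf 2 (centralizer ({z} : Set G))) : PRankLE 2 2 G := by
  have : Fact (Nat.Prime 2) := ⟨Nat.prime_two⟩
  have hQ : IsPGroup 2 Q := hcore ▸ GT.isPGroup_pCoreOf 2 _
  have hN : ∀ c ∈ centralizer ({z} : Set G), ∀ q ∈ Q, c * q * c⁻¹ ∈ Q := fun c hc q hq =>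
    (mem_normalizer_iff.1 (hcore ▸ GT.le_normalizer_pCoreOf _ hc : c ∈ normalizer (Q : Set G)) q).1 hq
  have h2 : IsPGroup 2 (centralizer ({z} : Set G)) := two_of_odd hQ fun c hc ho =>
    hCQ (h.odd_cent hN hQ hc ho fun e he => h.odd_a hN hc ho (h.zp_le (hE ▸ he)))
  have := h2.isNilpotent
  obtain ⟨S, hS⟩ := GT.NM.exists_sylow_eq_pCoreOf (M := centralizer ({z} : Set G)) (p := 2) (by
    rw [← hcore]
    intro g hg
    have h3 := h.invB (N := normalizer (Q : Set G)) (fun c hc q hq => (mem_normalizer_iff.1 hc q).1 hq) hg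
    have h4 : g * z * g⁻¹ ∈ zpowers a := by rw [← h.za, ← conj_pow]; exact pow_mem h3 _
    rcases h.invol h4 (by rw [conj_mul, h.z_sq]; simp) with e | e
    · exact absurd (by simpa using e) h.z_ne
    · exact mem_centralizer_singleton.2 (mul_inv_eq_iff_eq_mul.1 e).symm)
  refine (GT.PG.pRankLE_sylow_iff S).1 fun A _ hA => ?_
  rw [← card_map_of_injective (S : Subgroup G).subtype_injective]
  refine h.card_le hE ((map_subtype_le A).trans (hS.trans hcore.symm).le) ?_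
  rintro _ ⟨x, hx, rfl⟩
  rw [← map_mul, ← pow_two, hA x hx, map_one]

omit h in
theorem eq_of_zero (h : HD Q E z a 0) : Q = E := by
  refine le_antisymm (fun q hq => ?_) h.le
  by_contra hC
  have h1 : a = z := by simpa using h.za
  have := (h.out hq (by rwa [h1, sup_eq_left.2 h.esz.zpowers_le])).1
  omega

end HD

namespace HD

variable {G : Type*} [Group G] {Q E : Subgroup G} {z a : G} {j : ℕ} (h : HD Q E z a (j + 1))
include h

theorem u_sq : a ^ 2 ^ j * a ^ 2 ^ j = z := by rw [← pow_add, ← two_mul, ← pow_succ', h.za]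

omit h in
theorem P_le : E ⊔ zpowers (a ^ 2 ^ j) ≤ E ⊔ zpowers a :=
  sup_le_sup_left (zpowers_le.2 (npow_mem_zpowers a _)) E

theorem e_sq {e : G} (he : e ∈ E) : e * e = 1 ∨ e * e = z :=
  (mem_zpowers_iff_of_sq h.z_sq).1 (pow_two e ▸ h.esz.pow_mem e he)

theorem P_sq {p : G} (hp : p ∈ E ⊔ zpowers (a ^ 2 ^ j)) : p * p = 1 ∨ p * p = z := by
  obtain ⟨e, he, y, hy, rfl⟩ := (h.mem_sup (npow_mem_zpowers a _)).1 hp
  have h1 := h.ac' (zpowers_le.2 (npow_mem_zpowers a _) hy) he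
  have h3 : e * y * (e * y) = e ^ 2 * (y * y) := by
    rw [pow_two, mul_assoc, ← mul_assoc y, h1.eq]; group
  rw [← mem_zpowers_iff_of_sq h.z_sq, h3]
  refine mul_mem (h.esz.pow_mem e he) ?_
  obtain ⟨i, rfl⟩ := mem_zpowers_iff.1 hy
  rw [← (Commute.refl _).mul_zpow, h.u_sq]
  exact zpow_mem_zpowers _ _

theorem mem_P {q : G} (hq : q ∈ E ⊔ zpowers a) (h4 : q ^ 4 = 1) : q ∈ E ⊔ zpowers (a ^ 2 ^ j) := by
  obtain ⟨e, he, y, hy, rfl⟩ := (h.mem_sup (mem_zpowers a)).1 hq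
  rw [(h.ac' hy he).symm.mul_pow, show e ^ 4 = 1 from h.esz.pow_sq_eq_one he, one_mul] at h4
  obtain ⟨i, rfl⟩ := mem_zpowers_iff.1 hy
  obtain ⟨n, hn⟩ := h.pow_dvd (i := i * 4) (by rw [zpow_mul]; exact_mod_cast h4)
  have h1 : i = 2 ^ j * n := by rw [pow_succ, pow_succ] at hn; linarith
  refine mul_mem_sup he ?_
  rw [h1, zpow_mul]
  exact zpow_mem (by exact_mod_cast mem_zpowers _) n

theorem aes : AES (E ⊔ zpowers (a ^ 2 ^ j)) z where
  z_mem := mem_sup_left h.esz.z_mem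
  z_ne := h.z_ne
  z_sq := h.z_sq
  z_comm q hq := h.comm_of_mem h.z_mem (P_le hq)
  comm x hx y hy := by
    obtain ⟨e, he, v, hv, rfl⟩ := (h.mem_sup (mem_zpowers a)).1 (P_le hx)
    obtain ⟨e', he', v', hv', rfl⟩ := (h.mem_sup (mem_zpowers a)).1 (P_le hy)
    have h1 := h.comm_of_mem hv (mul_mem_sup he' hv')
    have h2 := h.comm_of_mem hv' (mul_mem_sup he hv)
    have h3 : e * v * (e' * v') = ⁅e, e'⁆ * (e' * v' * (e * v)) := by
      calc _ = e * (e' * v' * v) := by rw [mul_assoc, h1.eq]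
        _ = e * e' * (v * v') := by
          rw [mul_assoc e' v', (h.comm_of_mem hv' (mem_sup_right hv)).eq]; group
        _ = _ := by rw [mul_assoc e' v', h2.eq, commutatorElement_def]; group
    rcases (mem_zpowers_iff_of_sq h.z_sq).1 (h.esz.comm_mem e he e' he') with e | e
    · exact Or.inl (by rw [h3, e, one_mul])
    · exact Or.inr (by rw [h3, e])
  sq x hx := h.P_sq hx
  omega x hx hxx hc := h.invol (h.mem_zp (P_le hx) fun e he => hc e (mem_sup_left he)) hxx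

theorem st [Finite G] (hE : E ≠ zpowers z) (hCQ : centralizer (Q : Set G) ≤ Q)
    (hcore : Q = pCoreOf 2 (centralizer ({z} : Set G))) : St Q (E ⊔ zpowers (a ^ 2 ^ j)) z (a ^ 2 ^ j) := by
  have : Fact (Nat.Prime 2) := ⟨Nat.prime_two⟩
  have hQ : IsPGroup 2 Q := hcore ▸ GT.isPGroup_pCoreOf 2 _
  have hN : ∀ c ∈ centralizer ({z} : Set G), ∀ q ∈ Q, c * q * c⁻¹ ∈ Q := fun c hc q hq =>
    (mem_normalizer_iff.1 (hcore ▸ GT.le_normalizer_pCoreOf _ hc : c ∈ normalizer (Q : Set G)) q).1 hq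
  have hu : zpowers (a ^ 2 ^ j) ≤ zpowers a := zpowers_le.2 (npow_mem_zpowers a _)
  have hP : ∀ c ∈ centralizer ({z} : Set G), ∀ p ∈ E ⊔ zpowers (a ^ 2 ^ j),
      c * p * c⁻¹ ∈ E ⊔ zpowers (a ^ 2 ^ j) := fun c hc p hp =>
    h.mem_P (h.invC hN hc (P_le hp)) (by rw [conj_pow, h.aes.pow_four hp]; simp)
  have hU : ∀ c ∈ centralizer ({z} : Set G), ∀ y ∈ zpowers (a ^ 2 ^ j), c * y * c⁻¹ ∈ zpowers (a ^ 2 ^ j) :=
    fun c hc y hy => by
      obtain ⟨i, rfl⟩ := mem_zpowers_iff.1 hy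
      rw [← conj_zpow]
      exact zpow_mem (h.inv_pow hN hc _) i
  refine ⟨h.aes, mem_sup_right (mem_zpowers _), h.u_sq, fun p hp => h.comm_of_mem (npow_mem_zpowers a _) (P_le hp),
    ?_, fun c hc => hP c (mem_centralizer_singleton.2 hc), P_le.trans h.sup_le', hcore, ?_, fun q hq hc h4 => ?_, ?_⟩
  · obtain ⟨x, hx, y, hy, e⟩ := h.esz.exists_pair hE
    exact ⟨x, mem_sup_left hx, y, mem_sup_left hy, fun e' =>
      h.z_ne (e ▸ commutatorElement_eq_one_iff_mul_comm.2 e')⟩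
  · let K : Subgroup G :=
      { carrier := {c | c ∈ centralizer ({z} : Set G) ∧
          ∀ p ∈ E ⊔ zpowers (a ^ 2 ^ j), c * p * c⁻¹ * p⁻¹ ∈ zpowers (a ^ 2 ^ j)}
        one_mem' := ⟨one_mem _, fun p _ => by simp⟩
        mul_mem' := fun {c d} hc hd => ⟨mul_mem hc.1 hd.1, fun p hp => by
          have := mul_mem (hU c hc.1 _ (hd.2 p hp)) (hc.2 p hp)
          convert this using 1; group⟩
        inv_mem' := fun {c} hc => ⟨inv_mem hc.1, fun p hp => by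
          have := hU c⁻¹ (inv_mem hc.1) _ (inv_mem (hc.2 p hp))
          convert this using 1; group⟩ }
    have hK : ∀ g ∈ centralizer ({z} : Set G), ∀ c ∈ K, g * c * g⁻¹ ∈ K := fun g hg c hc =>
      ⟨mul_mem (mul_mem hg hc.1) (inv_mem hg), fun p hp => by
        have := hU g hg _ (hc.2 _ (hP g⁻¹ (inv_mem hg) p hp))
        convert this using 1; group⟩
    have h2 : IsPGroup 2 K := two_of_odd hQ fun c hc ho => hCQ (h.odd_cent hN hQ hc.1 ho fun e he => by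
      have h1 := hu (hc.2 e (mem_sup_left he))
      refine Inv.Fz.fix_of_eq_mul_fixed (Inv.Fz.odd_orderOf_conj ho) ?_ (h.odd_a hN hc.1 ho h1) (k := j + 1 + 1) ?_
      · rw [← (h.ac' h1 he).eq]; simp
      · obtain ⟨i, hi⟩ := mem_zpowers_iff.1 h1
        rw [← hi, ← h.ord, ← zpow_natCast, ← zpow_mul, mul_comm, zpow_mul, zpow_natCast, pow_orderOf_eq_one, one_zpow])
    intro c hc hp
    exact hcore ▸ GT.le_pCoreOf (N := K) (fun c hc => hc.1) (fun g hg => mem_normalizer_iff.2 fun x =>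
      ⟨hK g hg x, fun hx => by simpa [mul_assoc] using hK g⁻¹ (inv_mem hg) _ hx⟩) h2
      (show c ∈ K from ⟨mem_centralizer_singleton.2 hc, hp⟩)
  · refine h.mem_P ?_ h4
    by_contra hC
    obtain ⟨h1, h2⟩ := h.out hq hC
    obtain ⟨i, rfl⟩ := Nat.exists_eq_add_of_le' (show 1 ≤ j by omega)
    have h3 : q * a ^ 2 ^ (i + 1) * q⁻¹ = (a ^ 2 ^ (i + 1))⁻¹ := by
      rw [pow_succ', pow_mul, pow_two, ← conj_pow, h2, _root_.inv_pow]
    rw [← hc, mul_inv_cancel_right, eq_inv_iff_mul_eq_one, h.u_sq] at h3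
    exact h.z_ne h3
  · rcases j with _ | i
    · refine Or.inl (le_antisymm (fun q hq => ?_) (P_le.trans h.sup_le'))
      by_contra hC
      have := (h.out hq (by simpa using hC)).1
      omega
    · exact Or.inr ⟨a ^ 2 ^ i, by rw [← pow_add, ← two_mul, ← pow_succ'],
        fun p hp => h.comm_of_mem (npow_mem_zpowers a _) (P_le hp),
        fun c hc => h.inv_pow hN (mem_centralizer_singleton.2 hc) _⟩

end HD

theorem exists_st {G : Type*} [Group G] [Finite G] {z : G} (hz : orderOf z = 2)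
    (hQ : IsOfSymplecticType (generalizedFittingSubgroup (centralizer ({z} : Set G))))
    (hE : ¬ IsExtraspecial 2 (generalizedFittingSubgroup (centralizer ({z} : Set G))))
    (h3 : ¬ PRankLE 2 2 G) : ∃ Q P u, St Q P z u := by
  have : Fact (Nat.Prime 2) := ⟨Nat.prime_two⟩
  set F := generalizedFittingSubgroup (centralizer ({z} : Set G)) with hF
  obtain ⟨h1, h2, h4⟩ := fstar_facts (z := z) rfl (hQ.1.map _)
  obtain ⟨⟨z', hzH⟩, hzF, rfl : z' = z⟩ := h1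
  obtain ⟨hz1, hzz⟩ := orderOf_eq_two_iff'.1 hz
  obtain ⟨E, a, k, h⟩ := exists_hd hQ (z := ⟨⟨z', hzH⟩, hzF⟩)
    (fun e => hz1 (congrArg (fun x : F => ((x : centralizer ({z'} : Set G)) : G)) e))
    (Subtype.ext (Subtype.ext hzz))
    (mem_center_iff.2 fun g => Subtype.ext (Subtype.ext (mem_centralizer_singleton.1 g.1.2).symm))
  have h5 := h.map (f := (centralizer ({z'} : Set G)).subtype.comp F.subtype)
    ((subtype_injective _).comp (subtype_injective _))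
  rw [← map_map ⊤, ← MonoidHom.range_eq_map, range_subtype] at h5
  by_cases hz : E.map ((centralizer ({z'} : Set G)).subtype.comp F.subtype) = zpowers z'
  · exact absurd (h5.rank hz h2 h4) h3
  rcases k with _ | j
  · refine absurd (isExtraspecial_congr (F.equivMapOfInjective _ (subtype_injective _)).symm ?_) hE
    rw [HD.eq_of_zero h5]
    exact h5.esz.isExtraspecial hz
  · exact ⟨_, _, _, h5.st hz h2 h4⟩

end Cfsg.Agent.Symp
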